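import Cfsg.Agent.Lib.HallNumbers.Local
import Cfsg.Agent.Lib.Invol.Signalizer
import Cfsg.Agent.Lib.GW.Setting
import Cfsg.Agent.Lib.Char.Burnside

/-!
# Subgroups of order twelve and twenty-four
-/

set_option autoImplicit false
set_option linter.unusedSectionVars false

namespace CfsgLib.HallNumbers

open Subgroup

universe u

variable {G : Type u} [Group G] [Finite G]

/-- Hall subgroups of a solvable subgroup. -/
theorem exists_of_solvable {m : ℕ} (hm : m ∣ Nat.card G) (hc : m.Coprime (Nat.card G / m))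
    {X : Subgroup G} (hX : Group.IsSolvable X) (hmX : m ∣ Nat.card X) :
    ∃ H : Subgroup G, Nat.card H = m := by
  obtain ⟨k, hk⟩ := hmX
  have hm0 : 0 < m := Nat.pos_of_ne_zero fun e => by
    rw [e, zero_mul] at hk
    exact Nat.card_pos.ne' hk
  have hkd : k ∣ Nat.card G / m := by
    refine Nat.dvd_div_of_mul_dvd ?_
    rw [← hk]
    exact card_subgroup_dvd_card X
  haveI := hX
  obtain ⟨H, hH⟩ := CfsgLib.Coprime.exists_hall hk (hc.coprime_dvd_right hkd)
  exact ⟨H.map X.subtype, by rw [card_map_of_injective X.subtype_injective, hH]⟩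

/-- Lifting through a normal subgroup of coprime order. -/
theorem exists_lift {m : ℕ} (N : Subgroup G) [N.Normal] (hc : (Nat.card N).Coprime m)
    (h : ∃ H : Subgroup (G ⧸ N), Nat.card H = m) : ∃ H : Subgroup G, Nat.card H = m := by
  obtain ⟨H, hH⟩ := h
  set X := H.comap (QuotientGroup.mk' N) with hX
  have hNX : N ≤ X := fun n hn => by
    rw [hX, mem_comap, show QuotientGroup.mk' N n = 1 from (QuotientGroup.eq_one_iff n).2 hn]
    exact one_mem _
  have hNX' : Nat.card (N.subgroupOf X) = Nat.card N := Nat.card_congr (subgroupOfEquivOfLe hNX).toEquiv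
  have hidx : (N.subgroupOf X).index = m := by
    have h1 := (N.subgroupOf X).card_mul_index
    have h2 : Nat.card X = Nat.card N * m := by
      have e := X.card_mul_index
      rw [hX, index_comap_of_surjective H (QuotientGroup.mk'_surjective N)] at e
      have e2 := H.card_mul_index
      rw [← index_eq_card] at e2
      have e3 := N.card_mul_index
      rw [← e2, hH, ← e, ← mul_assoc] at e3
      exact (Nat.eq_of_mul_eq_mul_right (Nat.pos_of_ne_zero H.index_ne_zero_of_finite) e3).symm
    rw [hNX', h2] at h1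
    exact Nat.eq_of_mul_eq_mul_left Nat.card_pos h1
  obtain ⟨K, hK⟩ := exists_right_complement'_of_coprime (N := N.subgroupOf X) (by rw [hNX', hidx]; exact hc)
  exact ⟨K.map X.subtype, by rw [card_map_of_injective X.subtype_injective, ← hidx, hK.symm.index_eq_card]⟩

/-- The normalizer of a small subgroup is solvable. -/
theorem isSolvable_normalizer (T : Sylow 2 G) (hT : ¬ 16 ∣ Nat.card (T : Subgroup G)) {Q : Subgroup G}
    (hQ : Q ≤ (T : Subgroup G)) (h4 : 4 ∣ Nat.card Q) :
    Group.IsSolvable (normalizer (Q : Set G)) := by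
  haveI : Fact (Nat.Prime 2) := ⟨Nat.prime_two⟩
  set N := normalizer (Q : Set G)
  set Q' := Q.subgroupOf N with hQ'
  have hc : Nat.card Q' = Nat.card Q := Nat.card_congr (subgroupOfEquivOfLe le_normalizer).toEquiv
  haveI : Group.IsSolvable Q' := by
    haveI : Group.IsNilpotent Q' :=
      ((T.2.to_le hQ).of_equiv (subgroupOfEquivOfLe le_normalizer).symm).isNilpotent
    infer_instance
  haveI : Group.IsSolvable (N ⧸ Q') := isSolvable_of_not_four_dvd fun h => by
    have h16 : 2 ^ 4 ∣ Nat.card G := by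
      refine dvd_trans ?_ (card_subgroup_dvd_card N)
      rw [card_eq_card_quotient_mul_card_subgroup Q', hc, show 2 ^ 4 = 4 * 4 from rfl]
      exact mul_dvd_mul h h4
    exact hT (T.pow_dvd_card_of_pow_dvd_card h16)
  exact Group.isSolvable_of_ker_le_range Q'.subtype (QuotientGroup.mk' Q')
    (by rw [QuotientGroup.ker_mk', Subgroup.range_subtype])

/-- The exact two-part. -/
theorem card_sylow_two {a k : ℕ} (T : Sylow 2 G) (hG : Nat.card G = 2 ^ a * k) (hk : Odd k) :
    Nat.card (T : Subgroup G) = 2 ^ a := by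
  haveI : Fact (Nat.Prime 2) := ⟨Nat.prime_two⟩
  obtain ⟨b, hb⟩ := T.2.exists_card_eq
  refine Nat.dvd_antisymm ?_ (T.pow_dvd_card_of_pow_dvd_card (hG ▸ dvd_mul_right _ _))
  exact (Nat.Coprime.pow_left b (Nat.coprime_two_left.2 hk)).dvd_of_dvd_mul_right
    (hb ▸ hG ▸ card_subgroup_dvd_card (T : Subgroup G)) |> (hb ▸ ·)

theorem oddCore_eq_bot_quotient : Cfsg.oddCore (G ⧸ Cfsg.oddCore G) = ⊥ :=
  CfsgLib.Coprime.pPrimeCore_quotient_eq_bot Nat.prime_two

theorem no_odd_normal {X : Type u} [Group X] [Finite X] (h : Cfsg.oddCore X = ⊥) :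
    ∀ N : Subgroup X, N.Normal → Odd (Nat.card N) → N = ⊥ := fun N hN ho => by
  haveI := hN
  exact le_bot_iff.1 (h ▸ CfsgLib.GW.le_oddCore ho)

/-- The case of trivial odd core. -/
theorem core_case (hO : Cfsg.oddCore G = ⊥) {m : ℕ} (hm : m = 12 ∨ m = 24) (hd : m ∣ Nat.card G)
    (hc : m.Coprime (Nat.card G / m)) : ∃ H : Subgroup G, Nat.card H = m := by
  haveI : Fact (Nat.Prime 2) := ⟨Nat.prime_two⟩
  obtain ⟨k, hk⟩ := hd
  rw [hk, Nat.mul_div_cancel_left k (by omega)] at hc
  have hk6 : Odd k ∧ ¬ 3 ∣ k := by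
    refine ⟨Nat.coprime_two_left.1 (hc.coprime_dvd_left (by rcases hm with rfl | rfl <;> norm_num)), ?_⟩
    exact Nat.prime_three.coprime_iff_not_dvd.1
      (hc.coprime_dvd_left (by rcases hm with rfl | rfl <;> norm_num))
  have hc' : m.Coprime (Nat.card G / m) := by rwa [hk, Nat.mul_div_cancel_left k (by omega)]
  obtain ⟨T⟩ : Nonempty (Sylow 2 G) := inferInstance
  have hT : Nat.card (T : Subgroup G) = 4 ∨ Nat.card (T : Subgroup G) = 8 := by
    rcases hm with rfl | rfl
    · left
      rw [card_sylow_two T (a := 2) (k := 3 * k) (by rw [hk]; ring) ((by decide : Odd 3).mul hk6.1)]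
      norm_num
    · right
      rw [card_sylow_two T (a := 3) (k := 3 * k) (by rw [hk]; ring) ((by decide : Odd 3).mul hk6.1)]
      norm_num
  have hmT : m = 3 * Nat.card (T : Subgroup G) := by
    rcases hm with rfl | rfl
    · rw [card_sylow_two T (a := 2) (k := 3 * k) (by rw [hk]; ring) ((by decide : Odd 3).mul hk6.1)]
      norm_num
    · rw [card_sylow_two T (a := 3) (k := 3 * k) (by rw [hk]; ring) ((by decide : Odd 3).mul hk6.1)]
      norm_num
  have hsol : Group.IsSolvable G → ∃ H : Subgroup G, Nat.card H = m := fun hs =>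
    exists_of_solvable (hk ▸ dvd_mul_right m k) hc' (X := ⊤)
      (CfsgLib.Coprime.isSolvable_congr topEquiv.symm hs) (by rw [card_top, hk]; exact dvd_mul_right m k)
  rcases local_cases T hT with h | ⟨Q, h4, hQ, hTN, h3, -⟩ | ⟨h8, hel, hfree, h7⟩
  · exact hsol (isSolvable_of_complement h)
  · refine exists_of_solvable (hk ▸ dvd_mul_right m k) hc' (isSolvable_normalizer T ?_ hQ h4) ?_
    · rcases hT with e | e <;> rw [e] <;> norm_num
    · rw [hmT]
      refine Nat.Coprime.mul_dvd_of_dvd_of_dvd ?_ h3 (card_dvd_of_le hTN)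
      rcases hT with e | e <;> rw [e] <;> norm_num
  · rcases solvable_or_nine T h8 hel hfree h7 (no_odd_normal hO) with h | h
    · exact hsol h
    · exfalso
      rw [hk] at h
      refine hk6.2 ?_
      rcases hm with rfl | rfl
      · exact (show Nat.Coprime 3 4 by norm_num).dvd_of_dvd_mul_left
          (Nat.dvd_of_mul_dvd_mul_left (by norm_num : 0 < 3) (by rw [← mul_assoc]; exact h))
      · exact (show Nat.Coprime 3 8 by norm_num).dvd_of_dvd_mul_left
          (Nat.dvd_of_mul_dvd_mul_left (by norm_num : 0 < 3) (by rw [← mul_assoc]; exact h))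

/-- A normal subgroup of odd order and the quotient. -/
theorem quotient_data {m : ℕ} (N : Subgroup G) [N.Normal] (hd : m ∣ Nat.card G)
    (hc : m.Coprime (Nat.card G / m)) (hN : (Nat.card N).Coprime m) :
    m ∣ Nat.card (G ⧸ N) ∧ m.Coprime (Nat.card (G ⧸ N) / m) := by
  have he : Nat.card G = Nat.card (G ⧸ N) * Nat.card N := card_eq_card_quotient_mul_card_subgroup N
  have h1 : m ∣ Nat.card (G ⧸ N) := hN.symm.dvd_of_dvd_mul_right (he ▸ hd)
  refine ⟨h1, hc.coprime_dvd_right ?_⟩
  obtain ⟨c, hc'⟩ := h1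
  rcases Nat.eq_zero_or_pos m with rfl | hm
  · rw [zero_mul] at hc'
    exact absurd hc' Nat.card_pos.ne'
  · rw [he, hc', Nat.mul_div_cancel_left c hm, mul_assoc, Nat.mul_div_cancel_left _ hm]
    exact dvd_mul_right c _

/-- Hall subgroups of orders twelve and twenty-four. -/
theorem twelve_twentyfour {m : ℕ} (hm : m = 12 ∨ m = 24) (hd : m ∣ Nat.card G)
    (hc : m.Coprime (Nat.card G / m)) : ∃ H : Subgroup G, Nat.card H = m := by
  classical
  haveI : Fact (Nat.Prime 2) := ⟨Nat.prime_two⟩
  haveI : Fact (Nat.Prime 3) := ⟨Nat.prime_three⟩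
  set O := Cfsg.oddCore G with hOdef
  haveI : O.Normal := by
    haveI := CfsgLib.Coprime.pPrimeCore_characteristic (G := G) 2
    rw [hOdef]
    exact (inferInstance : (Cfsg.pPrimeCore 2 G).Normal)
  have hodd : Odd (Nat.card O) := CfsgLib.GW.odd_oddCore G
  by_cases h3 : 3 ∣ Nat.card O
  swap
  · have hcop : (Nat.card O).Coprime m := by
      rcases hm with rfl | rfl
      · rw [show (12 : ℕ) = 2 ^ 2 * 3 from rfl]
        exact ((Nat.coprime_two_right.2 hodd).pow_right 2).mul_right
          (Nat.prime_three.coprime_iff_not_dvd.2 h3).symm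
      · rw [show (24 : ℕ) = 2 ^ 3 * 3 from rfl]
        exact ((Nat.coprime_two_right.2 hodd).pow_right 3).mul_right
          (Nat.prime_three.coprime_iff_not_dvd.2 h3).symm
    obtain ⟨hd', hc'⟩ := quotient_data O hd hc hcop
    exact exists_lift O hcop (core_case oddCore_eq_bot_quotient hm hd' hc')
  -- a Sylow 3-subgroup of the odd core
  obtain ⟨R⟩ : Nonempty (Sylow 3 O) := inferInstance
  set R' : Subgroup G := (R : Subgroup O).map O.subtype with hR'
  have hsup := R.normalizer_sup_eq_top
  set N := normalizer (R' : Set G) with hN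
  obtain ⟨T⟩ : Nonempty (Sylow 2 N) := inferInstance
  have hNidx : Odd N.index := by
    refine hodd.of_dvd_nat ?_
    have h1 : N.index = N.relIndex O := by
      have hON : O.relIndex N = O.index := by
        rw [← relIndex_top_right, ← hsup, relIndex_sup_right]
      have e1 := relIndex_mul_index (inf_le_left : N ⊓ O ≤ N)
      have e2 := relIndex_mul_index (inf_le_right : N ⊓ O ≤ O)
      rw [inf_relIndex_left, hON] at e1
      rw [inf_relIndex_right] at e2
      rw [← e2, mul_comm] at e1
      exact Nat.eq_of_mul_eq_mul_right (Nat.pos_of_ne_zero O.index_ne_zero_of_finite) e1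
    rw [h1]
    exact relIndex_dvd_card N O
  have hTc : 2 ^ (if m = 12 then 2 else 3) ∣ Nat.card (T : Subgroup N) := by
    refine T.pow_dvd_card_of_pow_dvd_card ?_
    refine ((Nat.coprime_two_left.2 hNidx).pow_left _).dvd_of_dvd_mul_right ?_
    rw [card_mul_index]
    refine dvd_trans ?_ hd
    rcases hm with rfl | rfl <;> norm_num
  set T' : Subgroup G := (T : Subgroup N).map N.subtype with hT'
  have hX : Group.IsSolvable (R' ⊔ T' : Subgroup G) := by
    refine CfsgLib.Invol.isSolvable_sup (map_subtype_le _) ?_ ?_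
    · haveI : Group.IsNilpotent R' := (R.2.map O.subtype).isNilpotent
      infer_instance
    · haveI : Group.IsNilpotent T' := (T.2.map N.subtype).isNilpotent
      infer_instance
  refine exists_of_solvable hd hc hX ?_
  have hR3 : 3 ∣ Nat.card R' := by
    rw [hR', card_map_of_injective O.subtype_injective]
    exact R.dvd_card_of_dvd_card h3
  have hT2 : 2 ^ (if m = 12 then 2 else 3) ∣ Nat.card T' := by
    rwa [hT', card_map_of_injective N.subtype_injective]
  have key : 2 ^ (if m = 12 then 2 else 3) * 3 ∣ Nat.card (R' ⊔ T' : Subgroup G) :=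
    (Nat.Coprime.pow_left _ (by norm_num : Nat.Coprime 2 3)).mul_dvd_of_dvd_of_dvd
      (hT2.trans (card_dvd_of_le le_sup_right)) (hR3.trans (card_dvd_of_le le_sup_left))
  rcases hm with rfl | rfl <;> simpa using key

end CfsgLib.HallNumbers
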