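import Cfsg.Agent.Lib.HallNumbers.Small
import Cfsg.Agent.Lib.GW.Final
import Cfsg.Agent.Lib.Classical.ProjLine
import Cfsg.Agent.S0804

/-!
# Subgroups of order sixty
-/

set_option autoImplicit false
set_option linter.unusedSectionVars false

namespace CfsgLib.HallNumbers

open Subgroup
open scoped commutatorElement

universe u

variable {G : Type u} [Group G] [Finite G]

/-- A non-solvable group has a perfect non-solvable normal subgroup. -/
theorem exists_perfect_normal (h : ¬ Group.IsSolvable G) :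
    ∃ N : Subgroup G, N.Normal ∧ ¬ Group.IsSolvable N ∧ Group.IsPerfect N := by
  classical
  have hex : ∃ n, ∃ N : Subgroup G, N.Normal ∧ ¬ Group.IsSolvable N ∧ Nat.card N = n :=
    ⟨_, ⊤, inferInstance, fun hs => h (CfsgLib.Coprime.isSolvable_congr topEquiv hs), rfl⟩
  obtain ⟨N, hN, hns, hcard⟩ := Nat.find_spec hex
  refine ⟨N, hN, hns, ?_⟩
  haveI := hN
  rw [Group.isPerfect_def]
  set D := (commutator N).map N.subtype with hD
  haveI : D.Normal := ConjAct.normal_of_characteristic_of_normal
  have hDns : ¬ Group.IsSolvable D := fun hs => hns (by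
    haveI : Group.IsSolvable (commutator N) :=
      CfsgLib.Coprime.isSolvable_congr ((commutator N).equivMapOfInjective _ N.subtype_injective).symm hs
    haveI : Group.IsSolvable (N ⧸ commutator N) := (inferInstance : Group.IsSolvable (Abelianization N))
    exact Group.isSolvable_of_ker_le_range (commutator N).subtype (QuotientGroup.mk' (commutator N))
      (by rw [QuotientGroup.ker_mk', Subgroup.range_subtype]))
  have hle := Nat.find_min' hex ⟨D, inferInstance, hDns, rfl⟩
  rw [← hcard, hD, card_map_of_injective N.subtype_injective] at hle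
  exact eq_top_of_card_eq _ (le_antisymm (Nat.le_of_dvd Nat.card_pos (card_subgroup_dvd_card _)) hle)

/-- A group with Sylow 2-subgroups of order four and order prime to three is solvable. -/
theorem isSolvable_of_four_prime_to_three (T : Sylow 2 G) (hT : Nat.card (T : Subgroup G) = 4)
    (h3 : ¬ 3 ∣ Nat.card G) : Group.IsSolvable G := by
  haveI : Fact (Nat.Prime 2) := ⟨Nat.prime_two⟩
  refine isSolvable_of_complement (CfsgLib.Fusion.hasNormalPComplement_of_abelian_of_not_dvd T
    ⟨⟨fun a b => ?_⟩⟩ (a := 2) (by rw [hT]; norm_num) fun q hq _ hqG i hi1 hi2 hd => ?_)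
  · have : IsMulCommutative (T : Subgroup G) :=
      IsPGroup.isMulCommutative_of_card_eq_prime_sq (p := 2) (by rw [hT]; norm_num)
    exact this.is_comm.comm a b
  · interval_cases i
    · exact hq.one_lt.ne' (Nat.dvd_one.1 hd)
    · exact h3 (((Nat.prime_dvd_prime_iff_eq hq Nat.prime_three).1 hd) ▸ hqG)

/-- Arithmetic of sixty. -/
theorem sixty_data (hd : 60 ∣ Nat.card G) (hc : Nat.Coprime 60 (Nat.card G / 60)) :
    ∃ k, Nat.card G = 60 * k ∧ Odd k ∧ ¬ 3 ∣ k ∧ ¬ 5 ∣ k := by
  obtain ⟨k, hk⟩ := hd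
  rw [hk, Nat.mul_div_cancel_left k (by norm_num)] at hc
  exact ⟨k, hk, Nat.coprime_two_left.1 (hc.coprime_dvd_left (by norm_num)),
    Nat.prime_three.coprime_iff_not_dvd.1 (hc.coprime_dvd_left (by norm_num)),
    Nat.prime_five.coprime_iff_not_dvd.1 (hc.coprime_dvd_left (by norm_num))⟩

/-- Trivial odd core. -/
theorem sixty_core (hO : Cfsg.oddCore G = ⊥) (hd : 60 ∣ Nat.card G)
    (hc : Nat.Coprime 60 (Nat.card G / 60)) : ∃ H : Subgroup G, Nat.card H = 60 := by
  classical
  haveI : Fact (Nat.Prime 2) := ⟨Nat.prime_two⟩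
  haveI : Fact (Nat.Prime 5) := ⟨Nat.prime_five⟩
  obtain ⟨k, hk, hk2, hk3, hk5⟩ := sixty_data hd hc
  by_cases hs : Group.IsSolvable G
  · exact exists_of_solvable hd hc (X := ⊤) (CfsgLib.Coprime.isSolvable_congr topEquiv.symm hs)
      (by rw [card_top]; exact hd)
  obtain ⟨N, hNn, hNs, hNp⟩ := exists_perfect_normal hs
  haveI := hNn
  haveI := hNp
  obtain ⟨T⟩ : Nonempty (Sylow 2 N) := inferInstance
  have hN4 : 4 ∣ Nat.card N := by_contra fun h => hNs (isSolvable_of_not_four_dvd h)
  have hT4 : Nat.card (T : Subgroup N) = 4 := by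
    obtain ⟨b, hb⟩ := T.2.exists_card_eq
    refine Nat.dvd_antisymm ?_ ((show (2 : ℕ) ^ 2 = 4 by norm_num) ▸
      T.pow_dvd_card_of_pow_dvd_card ((show (2 : ℕ) ^ 2 = 4 by norm_num).symm ▸ hN4))
    have h1 : Nat.card (T : Subgroup N) ∣ 4 * (15 * k) := by
      rw [← mul_assoc, show 4 * 15 = 60 from rfl, ← hk]
      exact (card_subgroup_dvd_card _).trans (card_subgroup_dvd_card N)
    rw [hb] at h1 ⊢
    exact (Nat.Coprime.pow_left b (Nat.coprime_two_left.2 ((by decide : Odd 15).mul hk2))).dvd_of_dvd_mul_right h1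
  -- the local configuration
  obtain ⟨Q, hQ4, hQ, -, hQ3, hel⟩ : ∃ Q : Subgroup N, 4 ∣ Nat.card Q ∧ Q ≤ (T : Subgroup N) ∧
      (T : Subgroup N) ≤ normalizer (Q : Set N) ∧ 3 ∣ Nat.card (normalizer (Q : Set N)) ∧
      (Nat.card Q = 4 → ∀ y ∈ Q, y * y = 1) := by
    rcases local_cases T (Or.inl hT4) with h | h | ⟨h8, -⟩
    · exact absurd (isSolvable_of_complement h) hNs
    · exact h
    · omega
  have hQT : Q = (T : Subgroup N) := eq_of_le_of_card_ge hQ (by
    rw [hT4]; exact Nat.le_of_dvd Nat.card_pos hQ4)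
  subst hQT
  have hexp := hel hT4
  set T' : Subgroup G := (T : Subgroup N).map N.subtype with hT'
  set M := normalizer (T' : Set G) with hM
  by_cases h5 : 5 ∣ Nat.card M
  · -- a solvable subgroup of order divisible by sixty
    have hT'p : IsPGroup 2 T' := T.2.map N.subtype
    have hT'4 : Nat.card T' = 4 := by rw [hT', card_map_of_injective N.subtype_injective, hT4]
    obtain ⟨P, hP⟩ := hT'p.exists_le_sylow
    have hPc : Nat.card (P : Subgroup G) = 4 := by
      rw [card_sylow_two P (a := 2) (k := 15 * k) (by rw [hk]; ring) ((by decide : Odd 15).mul hk2)]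
      norm_num
    have hsol : Group.IsSolvable M :=
      isSolvable_normalizer P (by rw [hPc]; norm_num) hP (by rw [hT'4])
    refine exists_of_solvable hd hc hsol ?_
    have h3 : 3 ∣ Nat.card M := by
      refine hQ3.trans ?_
      rw [← card_map_of_injective (f := N.subtype) N.subtype_injective]
      exact card_dvd_of_le (le_normalizer_map _)
    have h4 : 4 ∣ Nat.card M := hT'4 ▸ card_dvd_of_le le_normalizer
    rw [show (60 : ℕ) = 4 * 3 * 5 from rfl]
    exact Nat.Coprime.mul_dvd_of_dvd_of_dvd (by norm_num)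
      (Nat.Coprime.mul_dvd_of_dvd_of_dvd (by norm_num) h4 h3) h5
  -- otherwise five divides the perfect subgroup
  have hN5 : 5 ∣ Nat.card N := by
    have hsup : M ⊔ N = ⊤ := T.normalizer_sup_eq_top
    have hNM : N.relIndex M = N.index := by
      rw [← relIndex_top_right, ← hsup, relIndex_sup_right]
    have h1 : 5 ∣ Nat.card N * N.index := by
      rw [card_mul_index]; exact dvd_trans (by norm_num) hd
    refine (Nat.prime_five.dvd_mul.1 h1).resolve_right fun h => h5 ?_
    rw [← hNM] at h
    exact h.trans (relIndex_dvd_card N M)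
  have hNO : Cfsg.oddCore N = ⊥ := by
    haveI := CfsgLib.Coprime.pPrimeCore_characteristic (G := N) 2
    haveI : ((Cfsg.pPrimeCore 2 N).map N.subtype).Normal := ConjAct.normal_of_characteristic_of_normal
    have h1 := no_odd_normal hO ((Cfsg.pPrimeCore 2 N).map N.subtype) inferInstance (by
      rw [card_map_of_injective N.subtype_injective]; exact CfsgLib.GW.odd_oddCore N)
    exact (Subgroup.map_eq_bot_iff_of_injective _ N.subtype_injective).1 h1
  haveI : Nontrivial (T : Subgroup N) := Finite.one_lt_card_iff_nontrivial.1 (by rw [hT4]; norm_num)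
  haveI hK : IsKleinFour (T : Subgroup N) :=
    ⟨hT4, Monoid.exponent_eq_prime_iff Nat.prime_two |>.2 fun y hy1 =>
      orderOf_eq_prime (by rw [pow_two]; exact Subtype.ext (hexp y y.2)) hy1⟩
  have hd2 : CfsgLib.GW.DihTwo N :=
    CfsgLib.GW.dihTwo_of_sylow T le_rfl (IsKleinFour.nonempty_mulEquiv (G₂ := DihedralGroup 2)).some
  have e0 : N ≃* N ⧸ Cfsg.oddCore N :=
    QuotientGroup.quotientBot.symm.trans (QuotientGroup.quotientMulEquivOfEq hNO.symm)
  rcases CfsgLib.GW.gw_perfect N hd2 with ⟨F, iF, jF, hodd, -, ⟨e1⟩⟩ | ⟨⟨e1⟩⟩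
  swap
  · exfalso
    have h8 : 2 ^ 3 ∣ Nat.card N := by
      rw [Nat.card_congr (e0.trans e1).toEquiv, nat_card_alternatingGroup, Nat.card_fin]
      norm_num [Nat.factorial]
    have := T.pow_dvd_card_of_pow_dvd_card h8
    rw [hT4] at this
    norm_num at this
  letI := iF
  letI := jF
  set e := e0.trans e1
  have hp := CfsgLib.Classical.card_psl2 (F := F)
  rw [← Nat.card_congr e.toEquiv] at hp
  have h5' : 5 ∣ Fintype.card F * (Fintype.card F ^ 2 - 1) := by
    have h1 : Fintype.card F ^ 2 - 1 = (Fintype.card F - 1) * (Fintype.card F + 1) := by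
      rw [mul_comm, ← Nat.sq_sub_sq, one_pow]
    rw [h1, ← hp]
    exact dvd_mul_of_dvd_right hN5 _
  obtain ⟨H, ⟨f⟩⟩ := (Cfsg.Agent.S0804.result (F := F) rfl).2 h5'
  refine ⟨(H.map e.symm.toMonoidHom).map N.subtype, ?_⟩
  rw [card_map_of_injective N.subtype_injective, card_map_of_injective (f := e.symm.toMonoidHom) e.symm.injective,
    Nat.card_congr f.toEquiv, nat_card_alternatingGroup, Nat.card_fin]
  norm_num [Nat.factorial]

/-- Hall subgroups of order sixty. -/
theorem sixty (hd : 60 ∣ Nat.card G) (hc : Nat.Coprime 60 (Nat.card G / 60)) :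
    ∃ H : Subgroup G, Nat.card H = 60 := by
  classical
  haveI : Fact (Nat.Prime 2) := ⟨Nat.prime_two⟩
  haveI : Fact (Nat.Prime 3) := ⟨Nat.prime_three⟩
  haveI : Fact (Nat.Prime 5) := ⟨Nat.prime_five⟩
  obtain ⟨k, hk, hk2, hk3, hk5⟩ := sixty_data hd hc
  set O := Cfsg.oddCore G with hOdef
  haveI : O.Normal := by
    haveI := CfsgLib.Coprime.pPrimeCore_characteristic (G := G) 2
    rw [hOdef]
    exact (inferInstance : (Cfsg.pPrimeCore 2 G).Normal)
  have hodd : Odd (Nat.card O) := CfsgLib.GW.odd_oddCore G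
  have hGO : Nat.card G = Nat.card (G ⧸ O) * Nat.card O := card_eq_card_quotient_mul_card_subgroup O
  by_cases h3 : 3 ∣ Nat.card O
  · -- then everything is solvable
    obtain ⟨T⟩ : Nonempty (Sylow 2 (G ⧸ O)) := inferInstance
    obtain ⟨c, hc3⟩ := h3
    have hq : Nat.card (G ⧸ O) * c = 20 * k := Nat.eq_of_mul_eq_mul_left (by norm_num : 0 < 3) (by
      rw [← mul_assoc, mul_comm 3 (Nat.card (G ⧸ O)), mul_assoc, ← hc3, ← hGO, hk]; ring)
    have hq3 : ¬ 3 ∣ Nat.card (G ⧸ O) := fun h => hk3
      ((show Nat.Coprime 3 20 by norm_num).dvd_of_dvd_mul_left (hq ▸ h.mul_right c))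
    have hT4 : Nat.card (T : Subgroup (G ⧸ O)) = 4 := by
      obtain ⟨b, hb⟩ := T.2.exists_card_eq
      have h4 : 2 ^ 2 ∣ Nat.card (G ⧸ O) :=
        ((Nat.coprime_two_left.2 hodd).pow_left 2).dvd_of_dvd_mul_right
          (hGO ▸ dvd_trans (by norm_num) hd)
      refine Nat.dvd_antisymm ?_ ((show (2 : ℕ) ^ 2 = 4 by norm_num) ▸ T.pow_dvd_card_of_pow_dvd_card h4)
      have h1 : Nat.card (T : Subgroup (G ⧸ O)) ∣ 4 * (15 * k) := by
        rw [← mul_assoc, show 4 * 15 = 60 from rfl, ← hk, hGO]
        exact (card_subgroup_dvd_card _).trans (dvd_mul_right _ _)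
      rw [hb] at h1 ⊢
      exact (Nat.Coprime.pow_left b (Nat.coprime_two_left.2 ((by decide : Odd 15).mul hk2))).dvd_of_dvd_mul_right h1
    haveI := isSolvable_of_four_prime_to_three T hT4 hq3
    haveI : Group.IsSolvable O := CfsgLib.FT.isSolvable_of_odd O hodd
    have hs : Group.IsSolvable G := Group.isSolvable_of_ker_le_range O.subtype (QuotientGroup.mk' O)
      (by rw [QuotientGroup.ker_mk', Subgroup.range_subtype])
    exact exists_of_solvable hd hc (X := ⊤) (CfsgLib.Coprime.isSolvable_congr topEquiv.symm hs)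
      (by rw [card_top]; exact hd)
  by_cases h5 : 5 ∣ Nat.card O
  swap
  · have hcop : (Nat.card O).Coprime 60 := by
      rw [show (60 : ℕ) = 2 ^ 2 * 3 * 5 from rfl]
      exact (((Nat.coprime_two_right.2 hodd).pow_right 2).mul_right
        (Nat.prime_three.coprime_iff_not_dvd.2 h3).symm).mul_right
        (Nat.prime_five.coprime_iff_not_dvd.2 h5).symm
    obtain ⟨hd', hc'⟩ := quotient_data O hd hc hcop
    exact exists_lift O hcop (sixty_core oddCore_eq_bot_quotient hd' hc')
  -- a Sylow 5-subgroup of the odd core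
  obtain ⟨R⟩ : Nonempty (Sylow 5 O) := inferInstance
  set R' : Subgroup G := (R : Subgroup O).map O.subtype with hR'
  have hR5 : 5 ∣ Nat.card R' := by
    rw [hR', card_map_of_injective O.subtype_injective]
    exact R.dvd_card_of_dvd_card h5
  set N := normalizer (R' : Set G) with hN
  have hsup : N ⊔ O = ⊤ := R.normalizer_sup_eq_top
  have hidx : N.index ∣ Nat.card O := by
    have h1 : N.index = N.relIndex O := by
      have hON : O.relIndex N = O.index := by
        rw [← relIndex_top_right, ← hsup, relIndex_sup_right]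
      have e1 := relIndex_mul_index (inf_le_left : N ⊓ O ≤ N)
      have e2 := relIndex_mul_index (inf_le_right : N ⊓ O ≤ O)
      rw [inf_relIndex_left, hON] at e1
      rw [inf_relIndex_right] at e2
      rw [← e2, mul_comm] at e1
      exact Nat.eq_of_mul_eq_mul_right (Nat.pos_of_ne_zero O.index_ne_zero_of_finite) e1
    rw [h1]
    exact relIndex_dvd_card N O
  have hN12 : 12 ∣ Nat.card N := by
    have hco : Nat.Coprime 12 N.index := by
      rw [show (12 : ℕ) = 2 ^ 2 * 3 from rfl]
      exact ((Nat.coprime_two_left.2 (hodd.of_dvd_nat hidx)).pow_left 2).mul_left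
        (Nat.prime_three.coprime_iff_not_dvd.2 fun h => h3 (h.trans hidx))
    refine hco.dvd_of_dvd_mul_right ?_
    rw [card_mul_index]
    exact dvd_trans (by norm_num) hd
  have hNc : Nat.Coprime 12 (Nat.card N / 12) := by
    obtain ⟨c, hcN⟩ := hN12
    rw [hcN, Nat.mul_div_cancel_left c (by norm_num)]
    have hdd : c ∣ 5 * k := by
      have := card_subgroup_dvd_card N
      rw [hcN, hk, show 60 * k = 12 * (5 * k) by ring] at this
      exact Nat.dvd_of_mul_dvd_mul_left (by norm_num) this
    refine Nat.Coprime.coprime_dvd_right hdd (Nat.Coprime.mul_right (by norm_num) ?_)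
    rw [show (12 : ℕ) = 2 ^ 2 * 3 from rfl]
    exact ((Nat.coprime_two_left.2 hk2).pow_left 2).mul_left (Nat.prime_three.coprime_iff_not_dvd.2 hk3)
  obtain ⟨H, hH⟩ := twelve_twentyfour (G := N) (Or.inl rfl) hN12 hNc
  set H' : Subgroup G := H.map N.subtype with hH'
  have hH12 : Nat.card H' = 12 := by rw [hH', card_map_of_injective N.subtype_injective, hH]
  have hHs : Group.IsSolvable H' :=
    CfsgLib.Char.isSolvable_of_card_two_primes Nat.prime_two Nat.prime_three H' 2 1 (by rw [hH12]; norm_num)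
  have hX : Group.IsSolvable (R' ⊔ H' : Subgroup G) := by
    refine CfsgLib.Invol.isSolvable_sup (map_subtype_le _) ?_ hHs
    haveI : Group.IsNilpotent R' := (R.2.map O.subtype).isNilpotent
    infer_instance
  refine exists_of_solvable hd hc hX ?_
  rw [show (60 : ℕ) = 12 * 5 from rfl]
  exact Nat.Coprime.mul_dvd_of_dvd_of_dvd (by norm_num)
    (hH12 ▸ card_dvd_of_le le_sup_right) (hR5.trans (card_dvd_of_le le_sup_left))

end CfsgLib.HallNumbers
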