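import Cfsg.Agent.Lib.Perm.Dickson.Bridge
import Mathlib.NumberTheory.LSeries.PrimesInAP

/-!
# Orders not admitting Hall subgroups

For `m = A * B` with `A` a prime power, `B > 1` odd and prime to `A` there is a prime `p` with `A` exactly
dividing `p - 1` and `B` exactly dividing `p + 1`; then `PSL(2, p)` has no subgroup of order `m`.
-/

set_option autoImplicit false
set_option linter.unusedSectionVars false

namespace CfsgLib.HallNumbers

open Matrix CfsgLib.Perm.Dickson

theorem not_dvd_p_mul {p m n : ℕ} (hp : p.Prime) (hm : m < p) (hm0 : 0 < m) (h : m ∣ p * n) : m ∣ n :=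
  (Nat.Coprime.symm (hp.coprime_iff_not_dvd.2 fun hd => by
    have := Nat.le_of_dvd hm0 hd
    omega)).dvd_of_dvd_mul_left h

/-- No subgroup of order `m` in `PSL(2, p)`. -/
theorem no_subgroup {p m : ℕ} [Fact p.Prime] (hmp : m < p) (hm0 : 0 < m)
    (h12 : m ≠ 12) (h24 : m ≠ 24) (h60 : m ≠ 60) (hminus : ¬ m ∣ p - 1) (hplus : ¬ m ∣ p + 1)
    (hp2 : p ≠ 2) (H : Subgroup (Matrix.ProjectiveSpecialLinearGroup (Fin 2) (ZMod p))) :
    Nat.card H ≠ m := by
  intro hH
  haveI := finite_G2 (F := ZMod p)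
  have hp : p.Prime := Fact.out
  have hq : Nat.card (ZMod p) = p := Nat.card_zmod p
  have hgcd : Nat.gcd 2 (Nat.card (ZMod p) - 1) = 2 := by
    rw [hq]
    obtain ⟨j, hj⟩ := hp.eq_two_or_odd'.resolve_left hp2
    exact Nat.gcd_eq_left ⟨j, by omega⟩
  have hcard : Nat.card (up H) = m := by rw [card_up, hH]
  cases classify_finite p (up H) with
  | borel x hx =>
    have hd : Nat.card (up H) ∣ Nat.card (bor x ⊓ psl (ZMod p) : Subgroup (G2 (ZMod p))) :=
      Subgroup.card_dvd_of_le (le_inf (le_bor hx) (up_le H))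
    have hb := card_bor_psl (F := ZMod p) x
    rw [hgcd, hq] at hb
    exact hminus (not_dvd_p_mul hp hmp hm0 (hb ▸ hcard ▸ hd.mul_left 2))
  | cyclic a b hg hle hne =>
    have hd : Nat.card (up H) ∣ Nat.card (pairFix a b) := by
      refine (Subgroup.card_dvd_of_le hle).trans dvd_rfl
    rw [hcard] at hd
    rcases card_pairFix hg with ⟨-, hn⟩ | ⟨-, hn⟩ <;> rw [hn, hq] at hd
    · exact hminus hd
    · exact hplus hd
  | dihedral a b hg hle hn hC =>
    obtain ⟨hc, -⟩ := dihedral_of_le hg.1 (isCyclic_pairFix hg.1) hle hn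
    have hd : Nat.card (up H) ∣ Nat.card (pairFix a b) := by
      have h1 : 2 * Nat.card (up H ⊓ pairFix a b : Subgroup (G2 (ZMod p))) ∣
          2 * Nat.card (pairFix a b ⊓ psl (ZMod p) : Subgroup (G2 (ZMod p))) :=
        Nat.mul_dvd_mul_left 2 (Subgroup.card_dvd_of_le (le_inf inf_le_right (inf_le_left.trans (up_le H))))
      rw [← hc] at h1
      have h2 := card_pairFix_psl hg
      rw [hgcd] at h2
      rwa [h2] at h1
    rw [hcard] at hd
    rcases card_pairFix hg with ⟨-, hn⟩ | ⟨-, hn⟩ <;> rw [hn, hq] at hd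
    · exact hminus hd
    · exact hplus hd
  | a4 hN h2 h3 h => exact h12 (hcard.symm.trans hN)
  | s4 hN h2 h3 h => exact h24 (hcard.symm.trans hN)
  | a5 hN h2 h5 h => exact h60 (hcard.symm.trans hN)
  | subfield σ F1 h3 h =>
    obtain ⟨j, hj1, hj⟩ := exists_card_pow F1
    rw [hq] at hj
    have hF1 : Nat.card F1 = p := by
      rcases (Nat.dvd_prime hp).1 (Dvd.intro_left _ (by rw [← pow_succ, Nat.sub_add_cancel hj1]; exact hj) :
          Nat.card F1 ∣ p) with e | e
      · omega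
      · exact e
    have hpd : p ∣ Nat.card (up H) := by
      rw [Nat.card_congr (conjEquiv σ (up H)).toEquiv]
      rcases h with h | ⟨-, h⟩
      · rw [h, ← Nat.card_congr (MonoidHom.ofInjective (mapG_injective F1.subtype)).toEquiv, card_G2, hF1]
        exact (dvd_mul_right p _).mul_right _
      · rw [h, Subgroup.card_map_of_injective (mapG_injective F1.subtype)]
        have e := card_psl F1
        rw [hF1] at e
        refine (((Nat.coprime_primes hp Nat.prime_two).2 hp2).coprime_dvd_right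
          (Nat.gcd_dvd_left 2 (p - 1))).dvd_of_dvd_mul_left ?_
        rw [e]
        exact dvd_mul_right _ _
    rw [hcard] at hpd
    exact absurd (Nat.le_of_dvd hm0 hpd) (by omega)

/-- The counterexample. -/
theorem counter {A B : ℕ} {r b : ℕ} (hr : r.Prime) (hb : 1 ≤ b) (hA : A = r ^ b) (hA2 : r = 2 → 2 ≤ b)
    (hB : 1 < B) (hBodd : Odd B) (hcop : A.Coprime B)
    (h12 : A * B ≠ 12) (h24 : A * B ≠ 24) (h60 : A * B ≠ 60) :
    ∃ (G : Type) (_ : Group G) (_ : Finite G), A * B ∣ Nat.card G ∧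
      (A * B).Coprime (Nat.card G / (A * B)) ∧ ∀ H : Subgroup G, Nat.card H ≠ A * B := by
  have hA1 : 1 < A := hA ▸ Nat.one_lt_pow (by omega) hr.one_lt
  have hcop2 : (A ^ 2).Coprime (B ^ 2) := hcop.pow 2 2
  obtain ⟨a0, ha0A, ha0B⟩ := Nat.chineseRemainder hcop2 (1 + A) (B - 1)
  have ha0 : a0.Coprime (A ^ 2 * B ^ 2) := by
    refine Nat.Coprime.mul_right ?_ ?_
    · refine Nat.Coprime.pow_right 2 ?_
      have h1 : a0 ≡ 1 + A [MOD A] := ha0A.of_dvd (dvd_pow_self A two_ne_zero)
      have h2 : (1 + A).Coprime A := by simp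
      unfold Nat.ModEq at h1
      rw [Nat.coprime_comm, Nat.coprime_iff_gcd_eq_one, Nat.gcd_rec, h1, ← Nat.gcd_rec,
        Nat.gcd_comm]
      exact h2
    · refine Nat.Coprime.pow_right 2 ?_
      have h1 : a0 ≡ B - 1 [MOD B] := ha0B.of_dvd (dvd_pow_self B two_ne_zero)
      have h2 : (B - 1).Coprime B := by
        rw [Nat.coprime_comm]
        exact (Nat.coprime_self_sub_right (show 1 ≤ B by omega)).2 (Nat.coprime_one_right _)
      unfold Nat.ModEq at h1
      rw [Nat.coprime_comm, Nat.coprime_iff_gcd_eq_one, Nat.gcd_rec, h1, ← Nat.gcd_rec,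
        Nat.gcd_comm]
      exact h2
  obtain ⟨p, hpm, hp, hpmod⟩ := Nat.forall_exists_prime_gt_and_modEq (A * B + 2) (q := A ^ 2 * B ^ 2)
    (by positivity) ha0
  haveI := Fact.mk hp
  have hA' : p ≡ 1 + A [MOD A ^ 2] := (hpmod.of_dvd (dvd_mul_right _ _)).trans ha0A
  have hB' : p ≡ B - 1 [MOD B ^ 2] := (hpmod.of_dvd (dvd_mul_left _ _)).trans ha0B
  have hAp : A + 2 < p := by
    have : A ≤ A * B := Nat.le_mul_of_pos_right A (by omega)
    omega
  have hBp : B + 2 < p := by
    have : B ≤ A * B := Nat.le_mul_of_pos_left B (by omega)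
    omega
  -- `A` exactly divides `p - 1` and `B` exactly divides `p + 1`
  obtain ⟨i, hi⟩ : ∃ i, p - 1 = A * (1 + A * i) := by
    obtain ⟨c, hc⟩ := (Nat.modEq_iff_dvd' (show 1 + A ≤ p by omega)).1 hA'.symm
    exact ⟨c, by rw [mul_add, mul_one, ← mul_assoc, ← pow_two]; omega⟩
  obtain ⟨j, hj⟩ : ∃ j, p + 1 = B * (1 + B * j) := by
    obtain ⟨c, hc⟩ := (Nat.modEq_iff_dvd' (show B - 1 ≤ p by omega)).1 hB'.symm
    exact ⟨c, by rw [mul_add, mul_one, ← mul_assoc, ← pow_two]; omega⟩
  have hAd : A ∣ p - 1 := ⟨_, hi⟩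
  have hBd : B ∣ p + 1 := ⟨_, hj⟩
  have hrA : r ∣ A := hA ▸ dvd_pow_self r (by omega)
  have hp2 : p ≠ 2 := by omega
  have hsmall : ∀ l, l ∣ p - 1 → l ∣ p + 1 → l ∣ 2 := fun l h1 h2 => by
    have := Nat.dvd_sub h2 h1
    rwa [show p + 1 - (p - 1) = 2 by omega] at this
  have hminus : ¬ A * B ∣ p - 1 := fun h => by
    have h1 := hsmall B ((dvd_mul_left B A).trans h) hBd
    obtain ⟨w, hw⟩ := hBodd
    have := Nat.le_of_dvd (by norm_num) h1
    omega
  have hplus : ¬ A * B ∣ p + 1 := fun h => by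
    have h1 := hsmall A hAd ((dvd_mul_right A B).trans h)
    rcases (Nat.dvd_prime Nat.prime_two).1 h1 with e | e
    · omega
    · have hr2 : r = 2 := (Nat.prime_dvd_prime_iff_eq hr Nat.prime_two).1 (e ▸ hrA)
      have : 2 ^ 2 ≤ A := by rw [hA, hr2]; exact Nat.pow_le_pow_right (by norm_num) (hA2 hr2)
      omega
  refine ⟨Matrix.ProjectiveSpecialLinearGroup (Fin 2) (ZMod p), inferInstance, inferInstance, ?_⟩
  have hcard : 2 * Nat.card (Matrix.ProjectiveSpecialLinearGroup (Fin 2) (ZMod p)) = p * ((p - 1) * (p + 1)) := by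
    have h := CfsgLib.Classical.card_psl2 (F := ZMod p)
    rw [ZMod.card] at h
    obtain ⟨t, ht⟩ := hp.eq_two_or_odd'.resolve_left hp2
    rwa [Nat.gcd_eq_left ⟨t, by omega⟩] at h
  set g := Nat.card (Matrix.ProjectiveSpecialLinearGroup (Fin 2) (ZMod p))
  rw [hi, hj] at hcard
  have hgdvd : A * B ∣ g := by
    obtain ⟨t, ht⟩ := hp.eq_two_or_odd'.resolve_left hp2
    by_cases hr2 : r = 2
    · -- the odd cofactor of `B` is even
      have he : 2 ∣ 1 + B * j := (Nat.prime_two.dvd_mul.1 (show 2 ∣ B * (1 + B * j) from ⟨t + 1, by omega⟩)).resolve_left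
        hBodd.not_two_dvd_nat
      obtain ⟨w, hw⟩ := he
      refine ⟨p * (1 + A * i) * w, Nat.eq_of_mul_eq_mul_left (by norm_num : 0 < 2) ?_⟩
      rw [hcard, hw]; ring
    · have hAodd : Odd A := by rw [hA]; exact (hr.eq_two_or_odd'.resolve_left hr2).pow
      refine Nat.Coprime.dvd_of_dvd_mul_left
        (Nat.Coprime.mul_left (Nat.coprime_two_right.2 hAodd) (Nat.coprime_two_right.2 hBodd)) ?_
      exact hcard.symm ▸ ⟨p * (1 + A * i) * (1 + B * j), by ring⟩
  refine ⟨hgdvd, ?_, fun H => ?_⟩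
  · obtain ⟨c, hc⟩ := hgdvd
    rw [hc, Nat.mul_div_cancel_left c (by positivity)]
    have h2c : 2 * c = p * ((1 + A * i) * (1 + B * j)) :=
      Nat.eq_of_mul_eq_mul_left (show 0 < A * B by positivity)
        (by rw [show A * B * (2 * c) = 2 * (A * B * c) by ring, ← hc, hcard]; ring)
    have hcB : B.Coprime c := by
      refine Nat.coprime_of_dvd fun l hl hlB hlc => ?_
      have h1 : l ∣ p * ((1 + A * i) * (1 + B * j)) := h2c ▸ hlc.mul_left 2
      rcases hl.dvd_mul.1 h1 with h | h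
      · have := Nat.le_of_dvd (by omega) hlB
        have := (Nat.prime_dvd_prime_iff_eq hl hp).1 h
        omega
      rcases hl.dvd_mul.1 h with h | h
      · have := hsmall l (hi ▸ h.mul_left A) (hlB.trans hBd)
        have hl2 := (Nat.prime_dvd_prime_iff_eq hl Nat.prime_two).1 this
        exact hBodd.not_two_dvd_nat (hl2 ▸ hlB)
      · exact hl.one_lt.ne' (Nat.dvd_one.1 ((Nat.dvd_add_left (hlB.mul_right j)).1 h))
    have hcA : A.Coprime c := by
      rw [hA]
      refine Nat.Coprime.pow_left b (hr.coprime_iff_not_dvd.2 fun hrc => ?_)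
      have h1 : r ∣ 1 + A * i → False := fun h =>
        hr.one_lt.ne' (Nat.dvd_one.1 ((Nat.dvd_add_left (hrA.mul_right i)).1 h))
      have hrp : ¬ r ∣ p := fun h => by
        have h' := (Nat.prime_dvd_prime_iff_eq hr hp).1 h
        have := Nat.le_of_dvd (by omega) hrA
        omega
      by_cases hr2 : r = 2
      · obtain ⟨t, ht⟩ := hp.eq_two_or_odd'.resolve_left hp2
        -- four does not divide `p + 1`
        have h4 : ¬ 4 ∣ p + 1 := fun h4 => by
          have : 4 ∣ A := by rw [hA, hr2]; exact pow_dvd_pow 2 (hA2 hr2)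
          have := hsmall 4 (this.trans hAd) h4
          norm_num at this
        have h4' : ¬ 2 * 2 ∣ 1 + B * j := fun h => h4 (hj ▸ h.mul_left B)
        obtain ⟨w, hw⟩ : 2 ∣ 1 + B * j :=
          (Nat.prime_two.dvd_mul.1 (show 2 ∣ B * (1 + B * j) from ⟨t + 1, by omega⟩)).resolve_left
            hBodd.not_two_dvd_nat
        have hcw : c = p * ((1 + A * i) * w) :=
          Nat.eq_of_mul_eq_mul_left (by norm_num : 0 < 2) (by rw [h2c, hw]; ring)
        rw [hcw] at hrc
        rcases hr.dvd_mul.1 hrc with h | h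
        · exact hrp h
        rcases hr.dvd_mul.1 h with h | h
        · exact h1 h
        · exact h4' (hw ▸ Nat.mul_dvd_mul_left 2 (hr2 ▸ h))
      · have h2 : r ∣ p * ((1 + A * i) * (1 + B * j)) := h2c ▸ hrc.mul_left 2
        rcases hr.dvd_mul.1 h2 with h | h
        · exact hrp h
        rcases hr.dvd_mul.1 h with h | h
        · exact h1 h
        · exact hr2 ((Nat.prime_dvd_prime_iff_eq hr Nat.prime_two).1
            (hsmall r (hrA.trans hAd) (hj ▸ h.mul_left B)))
    exact hcA.mul_left hcB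
  · exact no_subgroup (by omega) (by positivity) h12 h24 h60 hminus hplus hp2 H

end CfsgLib.HallNumbers
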