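import Cfsg.Agent.Lib.Block.FreeElementary.Count
import Cfsg.Agent.Lib.Block.FreeElementary.Small
import Cfsg.Agent.Lib.FT.NoMinSimple

/-!
# An elementary Sylow 2-subgroup of order eight with automizer of order seven

With trivial odd core the group is solvable, or the principal 2-block has degrees `1, 7, 7, 7, 7, 9, 9, 9`
and the order is `504`; in both cases, solvable or order divisible by nine.
-/

set_option autoImplicit false
set_option linter.unusedSectionVars false

namespace CfsgLib.HallNumbers

open Cfsg CfsgLib.Char CfsgLib.Block CfsgLib.Block.AbelianFree CfsgLib.Block.FreeElementary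

universe u

open scoped Classical

variable {G : Type u} [Group G] [Finite G]

/-- Automizer of order seven and trivial odd core. -/
theorem solvable_or_nine (P : Sylow 2 G) (h8 : Nat.card (P : Subgroup G) = 8)
    (hel : ∀ v ∈ (P : Subgroup G), v * v = 1) (hfree : Free P)
    (h7 : (cen P).relIndex (nor P) = 7)
    (hO : ∀ N : Subgroup G, N.Normal → Odd (Nat.card N) → N = ⊥) :
    Group.IsSolvable G ∨ 9 ∣ Nat.card G := by
  haveI := Fact.mk Nat.prime_two
  letI := Fintype.ofFinite G
  letI := Fintype.ofFinite (IrrCharacter G)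
  obtain ⟨M, hM⟩ := exists_pModular Nat.prime_two
  haveI := hM.2.1
  have hP : Hyp P := ⟨hfree, hel, le_of_eq h8.symm⟩
  have hnz : (nz P).card = 7 := by
    have := card_nz (P := P)
    omega
  have htr : (cen P).relIndex (nor P) = (nz P).card := by rw [h7, hnz]
  by_cases hn : (H P).index = 1
  · left
    obtain ⟨hnorm, -⟩ := normal_of_index_one hP hO hn
    haveI := hnorm
    haveI : Group.IsSolvable (P : Subgroup G) := by
      haveI := P.2.isNilpotent
      infer_instance
    haveI : Group.IsSolvable (G ⧸ (P : Subgroup G)) := CfsgLib.FT.isSolvable_of_odd _ (by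
      rw [← Subgroup.index_eq_card, Nat.odd_iff]
      have := P.not_dvd_index
      omega)
    exact Group.isSolvable_of_ker_le_range (P : Subgroup G).subtype (QuotientGroup.mk' (P : Subgroup G))
      (by rw [QuotientGroup.ker_mk', Subgroup.range_subtype])
  right
  have hW : W P = ⊥ := W_eq_bot hP hM htr hO (by omega) hn
  have hcard := card_G hP htr hW
  rw [h8, hnz] at hcard
  obtain ⟨v, hvP, hv1⟩ := exists_ne_one hP
  have hv : v ∈ nz P := mem_nz.mpr ⟨hvP, hv1⟩
  set B := Finset.univ.filter (fun χ : IrrCharacter G => χ ∈ principalBlock M G) with hB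
  have h1B : oneChar G ∈ B := Finset.mem_filter.mpr ⟨Finset.mem_univ _, one_mem_principalBlock⟩
  have hB8 : B.card = 8 := by
    rw [hB, ← Fintype.card_subtype, ← Nat.card_eq_fintype_card, ← h8]
    exact card_block hP hM htr hW hO hn
  have hsq := sum_val_sq hP hM htr hv
  rw [← hB, h8] at hsq
  have hsign : ∀ χ ∈ B, val χ v = 1 ∨ val χ v = -1 := by
    have hge : ∀ χ ∈ B, 1 ≤ val χ v ^ 2 := fun χ hχ => by
      have := value_ne_zero hP hM htr hW hv (Finset.mem_filter.mp hχ).2
      nlinarith [Int.one_le_abs this, sq_abs (val χ v)]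
    intro χ hχ
    have h0 : ∑ θ ∈ B, (val θ v ^ 2 - 1) = 0 := by
      rw [Finset.sum_sub_distrib, hsq, Finset.sum_const, hB8]
      norm_num
    have := (Finset.sum_eq_zero_iff_of_nonneg fun θ hθ => sub_nonneg.mpr (hge θ hθ)).mp h0 χ hχ
    exact sq_eq_one_iff.mp (sub_eq_zero.mp this)
  set A := (B.erase (oneChar G)).filter (fun χ => val χ v = 1) with hA
  set N := (B.erase (oneChar G)).filter (fun χ => ¬ val χ v = 1) with hN
  have hAN : A.card + N.card = 7 := by
    rw [hA, hN, Finset.card_filter_add_card_filter_not, Finset.card_erase_of_mem h1B, hB8]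
  have hNval : ∀ χ ∈ N, val χ v = -1 ∧ (charDegree (χ : G → ℂ) : ℤ) = 7 := fun χ hχ => by
    obtain ⟨hχ1, hχ2⟩ := Finset.mem_filter.mp hχ
    have e := (hsign χ (Finset.mem_of_mem_erase hχ1)).resolve_left hχ2
    refine ⟨e, ?_⟩
    rw [(degree_eq hP hM htr hW hO hn hv (Finset.mem_erase.mp hχ1).1).1, e, h8]
    norm_num
  have hAval : ∀ χ ∈ A, val χ v = 1 ∧ (charDegree (χ : G → ℂ) : ℤ) = 9 := fun χ hχ => by
    obtain ⟨hχ1, hχ2⟩ := Finset.mem_filter.mp hχ
    refine ⟨hχ2, ?_⟩
    rw [(degree_eq hP hM htr hW hO hn hv (Finset.mem_erase.mp hχ1).1).1, hχ2, h8]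
    norm_num
  have hone : charDegree ((oneChar G : IrrCharacter G) : G → ℂ) = 1 := by simp [charDegree, oneChar]
  -- orthogonality of the first two columns
  have hlin : (1 : ℤ) + 9 * A.card + (-7) * N.card = 0 := by
    have h1v : ∑ θ : IrrCharacter G, (charDegree (θ : G → ℂ) : ℤ) * val θ v = 0 := by
      refine Int.cast_injective (α := ℂ) ?_
      push_cast
      have h := sum_irr_mul_conj (G := G) 1 v
      rw [if_neg (fun e : IsConj 1 v => hv1 (by
        obtain ⟨c, hc⟩ := isConj_iff.mp e
        rw [← hc]; group))] at h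
      rw [← h]
      exact Finset.sum_congr rfl fun θ _ => by
        rw [conj_val (hP.elem v hvP), (charDegree_eq θ).1, val_spec θ (hP.elem v hvP)]
    rw [← Finset.sum_subset (Finset.subset_univ B) (fun θ _ hθ => by
        rw [value_zero hP hM htr hW hv fun h => hθ (Finset.mem_filter.mpr ⟨Finset.mem_univ _, h⟩),
          mul_zero]),
      ← Finset.add_sum_erase _ _ h1B, val_one, hone,
      ← Finset.sum_filter_add_sum_filter_not (B.erase (oneChar G)) (fun χ => val χ v = 1),
      ← hA, ← hN,
      Finset.sum_congr rfl (g := fun _ => (9 : ℤ)) (fun χ hχ => by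
        rw [(hAval χ hχ).1, (hAval χ hχ).2, mul_one]),
      Finset.sum_congr rfl (s₁ := N) (g := fun _ => (-7 : ℤ)) (fun χ hχ => by
        rw [(hNval χ hχ).1, (hNval χ hχ).2]; norm_num),
      Finset.sum_const, Finset.sum_const, nsmul_eq_mul, nsmul_eq_mul] at h1v
    push_cast at h1v ⊢
    linarith
  have hA3 : A.card = 3 := by omega
  have hN4 : N.card = 4 := by omega
  have hcube := sum_val_cube hP hM htr hv
  rw [← hB, ← Finset.add_sum_erase _ _ h1B, val_one, hone,
    ← Finset.sum_filter_add_sum_filter_not (B.erase (oneChar G)) (fun χ => val χ v = 1), ← hA, ← hN,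
    Finset.sum_congr rfl (g := fun _ => (1 / 9 : ℝ)) (fun χ hχ => by
      have e : (charDegree (χ : G → ℂ) : ℝ) = 9 := by exact_mod_cast (hAval χ hχ).2
      rw [(hAval χ hχ).1, e]; norm_num),
    Finset.sum_congr rfl (s₁ := N) (g := fun _ => (-1 / 7 : ℝ)) (fun χ hχ => by
      have e : (charDegree (χ : G → ℂ) : ℝ) = 7 := by exact_mod_cast (hNval χ hχ).2
      rw [(hNval χ hχ).1, e]; norm_num),
    Finset.sum_const, Finset.sum_const, hA3, hN4, hnz, h8] at hcube
  norm_num at hcube
  have hn9 : (H P).index = 9 := by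
    have : ((H P).index : ℝ) = 9 := by linarith
    exact_mod_cast this
  rw [hcard, hn9]
  norm_num

end CfsgLib.HallNumbers
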