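import Cfsg.Agent.Lib.HallNumbers.Free
import Cfsg.Agent.Lib.Block.FreeElementary.Automizer
import Cfsg.Agent.Lib.Fusion.PComplement
import Cfsg.Agent.Lib.Fusion.Abelian
import Cfsg.Agent.Lib.Coprime.Hall
import Cfsg.Agent.Lib.Coprime.Core

/-!
# Local structure at a Sylow 2-subgroup of order four or eight
-/

set_option autoImplicit false
set_option linter.unusedSectionVars false

namespace CfsgLib.HallNumbers

open Subgroup

universe u

variable {G : Type u} [Group G] [Finite G]

/-- A group of order not divisible by four is solvable. -/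
theorem isSolvable_of_not_four_dvd {X : Type u} [Group X] [Finite X] (h4 : ¬ 4 ∣ Nat.card X) :
    Group.IsSolvable X := by
  haveI : Fact (Nat.Prime 2) := ⟨Nat.prime_two⟩
  by_cases h2 : 2 ∣ Nat.card X
  swap
  · exact CfsgLib.FT.isSolvable_of_odd X (Nat.odd_iff.2 (by omega))
  obtain ⟨P⟩ : Nonempty (Sylow 2 X) := inferInstance
  have hP : Nat.card (P : Subgroup X) = 2 := by
    obtain ⟨a, ha⟩ := P.2.exists_card_eq
    have h1 : 2 ∣ 2 ^ a := ha ▸ P.dvd_card_of_dvd_card h2
    rcases a with _ | _ | a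
    · norm_num at h1
    · rw [ha, pow_one]
    · exact absurd (dvd_trans (show 4 ∣ 2 ^ (a + 1 + 1) by rw [pow_succ, pow_succ, mul_assoc]; exact dvd_mul_left 4 _)
        (ha ▸ card_subgroup_dvd_card _)) h4
  haveI : IsCyclic (P : Subgroup X) := isCyclic_of_prime_card hP
  have hc : IsMulCommutative (P : Subgroup X) := by
    letI := IsCyclic.commGroup (α := (P : Subgroup X))
    exact ⟨⟨fun a b => mul_comm a b⟩⟩
  have := CfsgLib.Fusion.hasNormalPComplement_of_abelian_of_not_dvd P hc (a := 1) (by rw [hP, pow_one])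
    fun q hq _ _ i hi1 hi2 hd => by
      rw [show i = 1 by omega] at hd
      exact hq.one_lt.ne' (Nat.dvd_one.1 hd)
  obtain ⟨S, K, hK, hKS⟩ := this
  haveI := hK
  haveI : Group.IsSolvable K := CfsgLib.FT.isSolvable_of_odd K (by
    rw [← hKS.index_eq_card, Nat.odd_iff]
    have := S.not_dvd_index
    omega)
  haveI : Group.IsSolvable (X ⧸ K) := by
    haveI : Group.IsSolvable (S : Subgroup X) := by
      haveI := S.2.isNilpotent
      infer_instance
    exact CfsgLib.Coprime.isSolvable_congr hKS.symm.QuotientMulEquiv.symm inferInstance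
  exact Group.isSolvable_of_ker_le_range K.subtype (QuotientGroup.mk' K)
    (by rw [QuotientGroup.ker_mk', Subgroup.range_subtype])

/-- A group with a normal 2-complement is solvable. -/
theorem isSolvable_of_complement {X : Type u} [Group X] [Finite X]
    (h : Cfsg.HasNormalPComplement 2 X) : Group.IsSolvable X := by
  haveI : Fact (Nat.Prime 2) := ⟨Nat.prime_two⟩
  obtain ⟨S, K, hK, hKS⟩ := h
  haveI := hK
  haveI : Group.IsSolvable K := CfsgLib.FT.isSolvable_of_odd K (by
    rw [← hKS.index_eq_card, Nat.odd_iff]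
    have := S.not_dvd_index
    omega)
  haveI : Group.IsSolvable (X ⧸ K) := by
    haveI : Group.IsSolvable (S : Subgroup X) := by
      haveI := S.2.isNilpotent
      infer_instance
    exact CfsgLib.Coprime.isSolvable_congr hKS.symm.QuotientMulEquiv.symm inferInstance
  exact Group.isSolvable_of_ker_le_range K.subtype (QuotientGroup.mk' K)
    (by rw [QuotientGroup.ker_mk', Subgroup.range_subtype])

/-- A transitive action of a `q`-element on the nonidentity elements. -/
theorem transitive_of_card {q : ℕ} [Fact q.Prime] {Q : Subgroup G} (hQp : IsPGroup 2 Q)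
    (hcard : Nat.card Q = q + 1) {x : G} (hxN : x ∈ normalizer (Q : Set G)) (hxq : ∃ k, orderOf x = q ^ k)
    (hxc : x ∉ centralizer (Q : Set G)) :
    ∀ y ∈ Q, y ≠ 1 → ∀ z ∈ Q, z ≠ 1 → ∃ g ∈ zpowers x, g * y * g⁻¹ = z := by
  classical
  have hle : zpowers x ≤ normalizer (Q : Set G) := zpowers_le.2 hxN
  letI : MulAction (zpowers x) Q :=
    MulAction.compHom Q ((Q.normalizerMonoidHom).comp (inclusion hle))
  have hsm : ∀ (g : zpowers x) (y : Q), ((g • y : Q) : G) = g * y * (g : G)⁻¹ := fun g y => rfl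
  obtain ⟨k, hk⟩ := hxq
  have hxp : IsPGroup q (zpowers x) := IsPGroup.of_card (n := k) (by rw [Nat.card_zpowers, hk])
  have hfix : ∀ y : Q, y ∈ MulAction.fixedPoints (zpowers x) Q ↔ Commute x (y : G) := fun y => by
    constructor
    · intro h
      have := congrArg Subtype.val (h ⟨x, mem_zpowers x⟩)
      rw [hsm] at this
      exact mul_inv_eq_iff_eq_mul.1 this
    · intro h g
      obtain ⟨j, hj⟩ := mem_zpowers_iff.1 g.2
      refine Subtype.ext ?_
      rw [hsm, ← hj, (h.zpow_left j).eq, mul_inv_cancel_right]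
  -- the fixed points form a subgroup
  let F : Subgroup Q := (centralizer ({x} : Set G)).subgroupOf Q
  have hF : Nat.card F = Nat.card (MulAction.fixedPoints (zpowers x) Q) := Nat.card_congr
    (Equiv.subtypeEquivRight fun y => by
      rw [hfix, mem_subgroupOf, mem_centralizer_singleton_iff]; exact ⟨fun h => h.symm, fun h => h.symm⟩)
  have hmod := hxp.card_modEq_card_fixedPoints Q
  rw [← hF, hcard] at hmod
  have hF1 : Nat.card F = 1 := by
    have hlt : Nat.card F < q + 1 := by
      refine lt_of_le_of_ne (hcard ▸ Nat.le_of_dvd Nat.card_pos (card_subgroup_dvd_card F)) fun e => hxc ?_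
      refine mem_centralizer_iff.2 fun y hy => ?_
      have hy' : (⟨y, hy⟩ : Q) ∈ F := by
        rw [eq_top_of_card_eq F (by rw [e, hcard])]; exact mem_top _
      exact mem_centralizer_singleton_iff.1 hy'
    rcases Nat.lt_or_ge (Nat.card F) q with h | h
    · unfold Nat.ModEq at hmod
      rw [Nat.mod_eq_of_lt h, Nat.add_mod_left, Nat.mod_eq_of_lt (Fact.out : q.Prime).one_lt] at hmod
      exact hmod.symm
    · exfalso
      unfold Nat.ModEq at hmod
      rw [show Nat.card F = q by omega, Nat.mod_self, Nat.add_mod_left,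
        Nat.mod_eq_of_lt (Fact.out : q.Prime).one_lt] at hmod
      omega
  intro y hy hy1 z hz hz1
  set y' : Q := ⟨y, hy⟩
  obtain ⟨j, hj⟩ := hxp.card_orbit y'
  have hsub : MulAction.orbit (zpowers x) y' ⊆ {w : Q | w ≠ 1} := by
    rintro w ⟨g, rfl⟩ e
    have := congrArg Subtype.val e
    rw [hsm, OneMemClass.coe_one, conj_eq_one_iff] at this
    exact hy1 this
  have hcard' : Nat.card {w : Q | w ≠ 1} = q := by
    have := Finite.card_subtype_lt (p := fun w : Q => w ≠ 1) (x := 1) (by simp)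
    rw [Nat.card_coe_set_eq]
    have h1 : ({w : Q | w ≠ 1} : Set Q) = {(1 : Q)}ᶜ := rfl
    rw [h1, Set.ncard_compl, Set.ncard_singleton, hcard, Nat.add_sub_cancel]
  have hj0 : j ≠ 0 := by
    intro e
    rw [e, pow_zero] at hj
    have hyfix : y' ∈ MulAction.fixedPoints (zpowers x) Q := by
      intro g
      have hsing : Subsingleton (MulAction.orbit (zpowers x) y') := (Nat.card_eq_one_iff_unique.1 hj).1
      exact congrArg Subtype.val (Subsingleton.elim (⟨g • y', MulAction.mem_orbit _ g⟩ :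
        MulAction.orbit (zpowers x) y') ⟨y', MulAction.mem_orbit_self _⟩)
    have hyF : y' ∈ F := mem_subgroupOf.2 (mem_centralizer_singleton_iff.2 ((hfix y').1 hyfix).symm)
    rw [card_eq_one.1 hF1, mem_bot] at hyF
    exact hy1 (congrArg Subtype.val hyF)
  have heq : MulAction.orbit (zpowers x) y' = {w : Q | w ≠ 1} := by
    refine Set.eq_of_subset_of_ncard_le hsub ?_
    rw [← Nat.card_coe_set_eq, ← Nat.card_coe_set_eq, hcard', hj]
    exact Nat.le_self_pow hj0 q
  obtain ⟨g, hg⟩ : (⟨z, hz⟩ : Q) ∈ MulAction.orbit (zpowers x) y' := by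
    rw [heq]; exact fun e => hz1 (congrArg Subtype.val e)
  exact ⟨g, g.2, by rw [← hsm g y']; exact congrArg Subtype.val hg⟩

/-- Transitivity forces exponent two. -/
theorem elementary_of_transitive {q : ℕ} [Fact q.Prime] {Q : Subgroup G} (hQp : IsPGroup 2 Q)
    (hcard : Nat.card Q = q + 1) {x : G} (hxN : x ∈ normalizer (Q : Set G)) (hxq : ∃ k, orderOf x = q ^ k)
    (hxc : x ∉ centralizer (Q : Set G)) : ∀ y ∈ Q, y * y = 1 := by
  haveI : Fact (Nat.Prime 2) := ⟨Nat.prime_two⟩
  intro y hy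
  by_cases hy1 : y = 1
  · rw [hy1, mul_one]
  have hd : 2 ∣ Nat.card Q := by
    obtain ⟨a, ha⟩ := hQp.exists_card_eq
    rcases a with _ | a
    · rw [pow_zero, hcard] at ha
      have := (Fact.out : q.Prime).two_le
      omega
    · rw [ha]; exact dvd_pow_self 2 (by omega)
  obtain ⟨t, ht⟩ := exists_prime_orderOf_dvd_card' (G := Q) 2 hd
  have ht1 : (t : G) ≠ 1 := fun e => by
    rw [← Subgroup.orderOf_coe, e, orderOf_one] at ht
    omega
  obtain ⟨g, -, rfl⟩ := transitive_of_card hQp hcard hxN hxq hxc t t.2 ht1 y hy hy1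
  have htt : (t : G) * t = 1 := by
    rw [← pow_two, ← ht, ← Subgroup.orderOf_coe, pow_orderOf_eq_one]
  calc g * t * g⁻¹ * (g * t * g⁻¹) = g * (t * t) * g⁻¹ := by group
    _ = 1 := by rw [htt]; group

/-- The two local configurations. -/
theorem local_cases (T : Sylow 2 G) (hT : Nat.card (T : Subgroup G) = 4 ∨ Nat.card (T : Subgroup G) = 8) :
    Cfsg.HasNormalPComplement 2 G ∨
    (∃ Q : Subgroup G, 4 ∣ Nat.card Q ∧ Q ≤ (T : Subgroup G) ∧ (T : Subgroup G) ≤ normalizer (Q : Set G) ∧
      3 ∣ Nat.card (normalizer (Q : Set G)) ∧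
      (Nat.card Q = 4 → ∀ y ∈ Q, y * y = 1)) ∨
    (Nat.card (T : Subgroup G) = 8 ∧ (∀ y ∈ (T : Subgroup G), y * y = 1) ∧
      CfsgLib.Block.AbelianFree.Free T ∧
      (CfsgLib.Block.AbelianFree.cen T).relIndex (CfsgLib.Block.AbelianFree.nor T) = 7) := by
  classical
  haveI : Fact (Nat.Prime 2) := ⟨Nat.prime_two⟩
  haveI : Fact (Nat.Prime 3) := ⟨Nat.prime_three⟩
  haveI : Fact (Nat.Prime 7) := ⟨by norm_num⟩
  by_cases hloc : CfsgLib.Fusion.LocallyPNilpotentAction 2 (T : Subgroup G)
  · exact Or.inl (CfsgLib.Fusion.hasNormalPComplement_of_locallyPNilpotentAction T hloc)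
  right
  -- a prime power element acting non-trivially
  obtain ⟨Q, hQ, g, hg, hg2, hgc⟩ : ∃ Q : Subgroup G, Q ≤ (T : Subgroup G) ∧
      ∃ g ∈ normalizer (Q : Set G), Nat.Coprime (orderOf g) 2 ∧ g ∉ centralizer (Q : Set G) := by
    unfold CfsgLib.Fusion.LocallyPNilpotentAction at hloc
    push Not at hloc
    exact hloc
  obtain ⟨q, hq, x, hxg, hxk, hxc⟩ : ∃ q : ℕ, q.Prime ∧ ∃ x ∈ zpowers g, (∃ k, x ^ q ^ k = 1) ∧
      x ∉ centralizer (Q : Set G) := by
    by_contra hc
    push Not at hc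
    exact hgc (CfsgLib.Fusion.le_of_forall_prime_pow (H := zpowers g) (C := centralizer (Q : Set G))
      (fun q hq x hx ⟨k, hk⟩ => hc q hq x hx ⟨k, hk⟩) (mem_zpowers g))
  haveI := Fact.mk hq
  have hxN : x ∈ normalizer (Q : Set G) := zpowers_le.2 hg hxg
  have hxo : ∃ k, orderOf x = q ^ k := by
    obtain ⟨k, hk⟩ := hxk
    obtain ⟨j, -, hj⟩ := (Nat.dvd_prime_pow hq).1 (orderOf_dvd_of_pow_eq_one hk)
    exact ⟨j, hj⟩
  have hqx : q ∣ orderOf x := by
    obtain ⟨k, hk⟩ := hxo
    rcases k with _ | k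
    · exact absurd (by rw [orderOf_eq_one_iff.1 (hk.trans (pow_zero q))]; exact one_mem _) hxc
    · rw [hk]; exact dvd_pow_self q (by omega)
  have hq2 : q ≠ 2 := by
    rintro rfl
    have hd := Subgroup.orderOf_dvd_natCard (zpowers g) hxg
    rw [Nat.card_zpowers] at hd
    exact (Nat.prime_two.coprime_iff_not_dvd.1 hg2.symm) (hqx.trans hd)
  obtain ⟨a, ha⟩ := (T.2.to_le hQ).exists_card_eq
  have ha3 : a ≤ 3 := by
    have h1 := Nat.le_of_dvd Nat.card_pos (Subgroup.card_dvd_of_le hQ)
    rw [ha] at h1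
    by_contra hc
    have : 2 ^ 4 ≤ 2 ^ a := Nat.pow_le_pow_right (by norm_num) (by omega)
    omega
  obtain ⟨i, hi1, hi2, hqi⟩ : ∃ i, 1 ≤ i ∧ i ≤ a ∧ q ∣ 2 ^ i - 1 := by
    by_contra hc
    push Not at hc
    exact hxc (CfsgLib.Fusion.mem_centralizer_of_prime_pow ha hxN hxk hq2 hc)
  have hi3 : i ≤ 3 := by omega
  have hiq : (q = 3 ∧ 2 ≤ a) ∨ (q = 7 ∧ a = 3) := by
    interval_cases i
    · exact absurd (Nat.dvd_one.1 hqi) hq.one_lt.ne'
    · exact Or.inl ⟨(Nat.prime_dvd_prime_iff_eq hq Nat.prime_three).1 hqi, hi2⟩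
    · exact Or.inr ⟨(Nat.prime_dvd_prime_iff_eq hq (by norm_num)).1 hqi, by omega⟩
  have hTN : ∀ R : Subgroup G, R ≤ (T : Subgroup G) → 4 ∣ Nat.card R →
      (T : Subgroup G) ≤ normalizer (R : Set G) := by
    intro R hR h4
    rw [← normal_subgroupOf_iff_le_normalizer hR]
    have h := (R.subgroupOf (T : Subgroup G)).card_mul_index
    rw [Nat.card_congr (subgroupOfEquivOfLe hR).toEquiv] at h
    obtain ⟨c, hc⟩ := h4
    rw [hc] at h
    rcases hT with e | e <;> rw [e] at h
    · have : (R.subgroupOf (T : Subgroup G)).index = 1 := Nat.eq_one_of_dvd_one ⟨c, by nlinarith⟩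
      rw [index_eq_one.1 this]
      infer_instance
    · rcases (Nat.dvd_prime Nat.prime_two).1 (⟨c, by nlinarith⟩ :
          (R.subgroupOf (T : Subgroup G)).index ∣ 2) with e2 | e2
      · rw [index_eq_one.1 e2]; infer_instance
      · exact normal_of_index_eq_two e2
  rcases hiq with ⟨rfl, ha2⟩ | ⟨rfl, rfl⟩
  · left
    have h4 : 4 ∣ Nat.card Q := ha ▸ (show 2 ^ 2 ∣ 2 ^ a from pow_dvd_pow 2 ha2)
    refine ⟨Q, h4, hQ, hTN Q hQ h4, hqx.trans (Subgroup.orderOf_dvd_natCard _ hxN), fun hQ4 => ?_⟩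
    exact elementary_of_transitive (q := 3) (T.2.to_le hQ) hQ4 hxN hxo hxc
  -- order eight, an element of order seven
  have hT8 : Nat.card (T : Subgroup G) = 8 := by
    have := Nat.le_of_dvd Nat.card_pos (Subgroup.card_dvd_of_le hQ)
    rw [ha] at this
    rcases hT with e | e <;> omega
  have hQT : Q = (T : Subgroup G) := eq_of_le_of_card_ge hQ (by rw [hT8, ha]; norm_num)
  subst hQT
  have htrans := transitive_of_card (q := 7) T.2 hT8 hxN hxo hxc
  have hel := elementary_of_transitive (q := 7) T.2 hT8 hxN hxo hxc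
  haveI hcomm : IsMulCommutative (T : Subgroup G) := ⟨⟨fun a b => by
    have h1 : ∀ c : (T : Subgroup G), c⁻¹ = c := fun c =>
      inv_eq_of_mul_eq_one_right (Subtype.ext (hel c c.2))
    rw [← h1 (a * b), mul_inv_rev, h1, h1]⟩⟩
  by_cases h3 : 3 ∣ Nat.card (normalizer ((T : Subgroup G) : Set G))
  · exact Or.inl ⟨T, by rw [hT8]; norm_num, le_rfl, le_normalizer, h3, fun e => by omega⟩
  right
  letI := Fintype.ofFinite G
  set N := normalizer ((T : Subgroup G) : Set G) with hN
  set K := centralizer ((T : Subgroup G) : Set G) with hK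
  have hKN : K ≤ N := centralizer_le_normalizer _
  have h7 : K.relIndex N = 7 := by
    have hodd := CfsgLib.Block.FreeElementary.odd_auto (P := T)
    have hrel : K.relIndex N = Nat.card (CfsgLib.Block.FreeElementary.auto T) :=
      CfsgLib.Block.FreeElementary.relIndex_eq_card (P := T)
    have hfact : K.relIndex N ∣ Nat.factorial 8 := by
      rw [hrel]
      refine (card_subgroup_dvd_card _).trans ?_
      let f : MulAut (T : Subgroup G) →* Equiv.Perm (T : Subgroup G) :=
        { toFun := fun φ => φ.toEquiv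
          map_one' := rfl
          map_mul' := fun _ _ => rfl }
      have hf : Function.Injective f := fun φ ψ e => MulEquiv.ext fun y => congrFun (congrArg DFunLike.coe e) y
      have hd := card_dvd_of_injective f hf
      rwa [Nat.card_perm, hT8] at hd
    have hprimes : ∀ r : ℕ, r.Prime → r ∣ K.relIndex N → r = 7 := by
      intro r hr hd
      haveI := Fact.mk hr
      haveI : (K.subgroupOf N).Normal := by
        rw [hK, hN, ← Subgroup.normalizerMonoidHom_ker]; infer_instance
      have hd' : r ∣ Nat.card (↥N ⧸ K.subgroupOf N) := by rw [← index_eq_card]; exact hd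
      obtain ⟨c₀, hy⟩ := exists_prime_orderOf_dvd_card' r hd'
      obtain ⟨y₀, rfl⟩ := QuotientGroup.mk_surjective c₀
      obtain ⟨e, k, hk, hek⟩ := Nat.exists_eq_pow_mul_and_not_dvd (orderOf_pos y₀).ne' r hr.ne_one
      have hy2 : (y₀ ^ k : ↥N) ∉ K.subgroupOf N := fun hmem => by
        rw [← QuotientGroup.eq_one_iff, QuotientGroup.mk_pow] at hmem
        exact hk (hy ▸ orderOf_dvd_of_pow_eq_one hmem)
      have hr2 : r ≠ 2 := fun e2 => by
        rw [hrel, e2] at hd
        exact hodd.not_two_dvd_nat hd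
      have hpow : ∃ j, ((y₀ ^ k : ↥N) : G) ^ r ^ j = 1 := ⟨e, by
        rw [← SubgroupClass.coe_pow, ← pow_mul, mul_comm, ← hek, pow_orderOf_eq_one, OneMemClass.coe_one]⟩
      obtain ⟨i, hi1, hi2, hri⟩ : ∃ i, 1 ≤ i ∧ i ≤ 3 ∧ r ∣ 2 ^ i - 1 := by
        by_contra hc
        push Not at hc
        exact hy2 (CfsgLib.Fusion.mem_centralizer_of_prime_pow (a := 3) (by rw [hT8]; norm_num)
          (y₀ ^ k).2 hpow hr2 hc)
      interval_cases i
      · exact absurd (Nat.dvd_one.1 hri) hr.one_lt.ne'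
      · exfalso
        refine h3 ((Nat.prime_dvd_prime_iff_eq hr Nat.prime_three).1 hri ▸ ?_)
        exact hd.trans (dvd_trans (Subgroup.index_dvd_card _) dvd_rfl)
      · exact (Nat.prime_dvd_prime_iff_eq hr (by norm_num)).1 hri
    have h0 : K.relIndex N ≠ 0 := fun h0 => by
      rw [h0, zero_dvd_iff] at hfact
      exact Nat.factorial_ne_zero 8 hfact
    obtain ⟨n, hn⟩ : ∃ n, K.relIndex N = 7 ^ n :=
      ⟨_, Nat.eq_prime_pow_of_unique_prime_dvd h0 fun {d} hd hdd => hprimes d hd hdd⟩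
    have hne : K.relIndex N ≠ 1 := fun e => hxc (relIndex_eq_one.1 e hxN)
    rcases n with _ | _ | n
    · exact absurd (by rw [hn, pow_zero]) hne
    · rw [hn]; norm_num
    · exfalso
      have h49 : 7 ^ 2 ∣ Nat.factorial 8 :=
        (pow_dvd_pow 7 (by omega : 2 ≤ n + 1 + 1)).trans (hn ▸ hfact)
      norm_num [Nat.factorial] at h49
  refine ⟨hT8, hel, ⟨hcomm, fun y hy hy1 => ?_⟩, h7⟩
  refine le_antisymm ?_ fun c hc => ⟨mem_centralizer_singleton_iff.2
    (mem_centralizer_iff.1 hc y hy).symm, hKN hc⟩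
  set M := centralizer ({y} : Set G) ⊓ N with hM
  have hKM : K ≤ M := fun c hc => ⟨mem_centralizer_singleton_iff.2
    (mem_centralizer_iff.1 hc y hy).symm, hKN hc⟩
  have hmul := relIndex_mul_relIndex K M N hKM inf_le_right
  rw [h7] at hmul
  rcases (Nat.dvd_prime (by norm_num : Nat.Prime 7)).1 (⟨_, hmul.symm⟩ : K.relIndex M ∣ 7) with e | e
  · exact relIndex_eq_one.1 e
  · exfalso
    rw [e] at hmul
    have hMN : N ≤ M := relIndex_eq_one.1 (by omega)
    have hyx : ∀ g ∈ zpowers x, g * y * g⁻¹ = y := fun g hg => by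
      rw [mem_centralizer_singleton_iff.1 (hMN (zpowers_le.2 hxN hg)).1, mul_inv_cancel_right]
    obtain ⟨z, hzT, hz1, hzy⟩ : ∃ z ∈ (T : Subgroup G), z ≠ 1 ∧ z ≠ y := by
      by_contra! hall
      haveI := Fintype.ofFinite G
      have : Nat.card (T : Subgroup G) ≤ 2 := by
        refine (Nat.card_le_card_of_injective (fun z : (T : Subgroup G) => (⟨(z : G), by
          rw [Finset.mem_insert, Finset.mem_singleton]
          exact or_iff_not_imp_left.2 (hall z z.2)⟩ : ({1, y} : Finset G))) ?_).trans ?_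
        · intro a b hab
          exact Subtype.ext (congrArg (fun c : ↥({1, y} : Finset G) => c.1) hab)
        · rw [Nat.card_eq_fintype_card, Fintype.card_coe]; exact Finset.card_le_two
      omega
    obtain ⟨g, hg, e⟩ := htrans y hy hy1 z hzT hz1
    exact hzy (by rw [← e, hyx g hg])

end CfsgLib.HallNumbers
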